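import Mathlib

/-!
# The affine group generated by `y` and `t` on the weights of `3 ^ 3` (S4816, row O7(3); helper484)

All nonzero weights lie in one orbit, whatever the translation part `c` of `t` is.
-/

set_option autoImplicit false

namespace Cfsg.Agent.H484.RIM

/-! ### combinatorics -/

abbrev V3 := ZMod 3 × ZMod 3 × ZMod 3

def sg (v : V3) : V3 := (v.2.1, v.2.2, v.1 + v.2.1)

def ta (c v : V3) : V3 := (v.1 + c.1, v.2.1 + c.2.1, v.2.2 + v.1 + c.2.2)

theorem dec1 : ∀ v w : V3, v ≠ 0 → w ≠ 0 → (∃ n < 13, sg^[n] v = w) ∨ (∃ n < 13, sg^[n] (-v) = w) := by decide +kernel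

theorem dec2 : ∀ c : V3, ∀ v : V3, v ≠ 0 → ∃ n < 13, ∃ m < 13, sg^[m] (ta c (sg^[n] v)) = -v := by decide +kernel

theorem comb {P : V3 → Prop} {c : V3} (h1 : ∀ v, P v → P (sg v)) (h2 : ∀ v, P v → P (ta c v)) {v0 : V3} (h0 : v0 ≠ 0)
    (hP : P v0) (v : V3) (hv : v ≠ 0) : P v := by
  have it : ∀ (n : ℕ) v, P v → P (sg^[n] v) := by
    intro n
    induction n with
    | zero => exact fun v hv => hv
    | succ n ih =>
      intro v hv
      rw [Function.iterate_succ_apply]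
      exact ih _ (h1 v hv)
  obtain ⟨n, -, m, -, hnm⟩ := dec2 c v0 h0
  have hP' : P (-v0) := by
    rw [← hnm]
    exact it m _ (h2 _ (it n _ hP))
  rcases dec1 v0 v h0 hv with ⟨k, -, hk⟩ | ⟨k, -, hk⟩
  · rw [← hk]
    exact it k _ hP
  · rw [← hk]
    exact it k _ hP'

end Cfsg.Agent.H484.RIM
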