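import Mathlib

/-!
# The configuration `3 ^ 3 : ⟨y, t⟩` and its lifts to central extensions (S4816, row O7(3); helper484)
-/

set_option autoImplicit false
set_option linter.unusedSectionVars false

namespace Cfsg.Agent.H484.RIM

/-- `a0, a1, a2` commute and have order 3, `y` acts by `a0 → a1 → a2 → a0 a1`, `t` by `a0 → a0`, `a1 → a1`,
`a2 → a2 a0`. -/
structure Three {S : Type*} [Group S] (a0 a1 a2 y t : S) : Prop where
  c01 : a0 * a1 = a1 * a0
  c02 : a0 * a2 = a2 * a0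
  y0 : y * a0 = a1 * y
  y1 : y * a1 = a2 * y
  y2 : y * a2 = a0 * a1 * y
  t0 : t * a0 = a0 * t
  t1 : t * a1 = a1 * t
  t2 : t * a2 = a2 * a0 * t
  ne : a0 ≠ 1
  cube : a0 ^ 3 = 1
  y13 : y ^ 13 = 1

/-- the data in a group `H` (a central extension), `Z` a central subgroup -/
structure ThreeL {H : Type*} [Group H] (Z : Subgroup H) (b0 b1 b2 y t k0 k1 k2 : H) : Prop where
  c01 : b0 * b1 = b1 * b0
  c02 : b0 * b2 = b2 * b0
  c12 : b1 * b2 = b2 * b1
  y0 : y * b0 = b1 * y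
  y1 : y * b1 = b2 * y
  y2 : y * b2 = b0 * b1 * y
  t0 : t * b0 = b0 * k0 * t
  t1 : t * b1 = b1 * k1 * t
  t2 : t * b2 = b2 * b0 * k2 * t
  d0 : b0 ^ 3 = 1
  d1 : b1 ^ 3 = 1
  d2 : b2 ^ 3 = 1
  e0 : k0 ^ 3 = 1
  e1 : k1 ^ 3 = 1
  e2 : k2 ^ 3 = 1
  z0 : k0 ∈ Z
  z1 : k1 ∈ Z
  z2 : k2 ∈ Z
  y13 : y ^ 13 ∈ Z

section

variable {H S : Type*} [Group H] [Group S]

/-- commutation up to a central element -/
theorem exists_z {π : H →* S} {a b : H} (h : π a * π b = π b * π a) : ∃ z ∈ π.ker, a * b = z * (b * a) := by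
  refine ⟨a * b * (b * a)⁻¹, ?_, by group⟩
  rw [MonoidHom.mem_ker, map_mul, map_mul, map_inv, map_mul, h, mul_inv_cancel]

theorem lift (π : H →* S) (hker : π.ker ≤ Subgroup.center H) {a0 a1 a2 y t : S} (h : Three a0 a1 a2 y t)
    {b y' t' : H} (hb : π b = a0) (hy : π y' = y) (ht : π t' = t) :
    ∃ b0 b1 b2 k0 k1 k2 : H, ThreeL π.ker b0 b1 b2 y' t' k0 k1 k2 ∧ π b0 = a0 := by
  -- raw lifts
  obtain ⟨c1, hc1⟩ : ∃ c1, c1 = y' * b * y'⁻¹ := ⟨_, rfl⟩
  obtain ⟨c2, hc2⟩ : ∃ c2, c2 = y' * c1 * y'⁻¹ := ⟨_, rfl⟩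
  obtain ⟨c3, hc3⟩ : ∃ c3, c3 = y' * c2 * y'⁻¹ := ⟨_, rfl⟩
  have q1 : π c1 = a1 := by rw [hc1, map_mul, map_mul, map_inv, hb, hy, h.y0, mul_inv_cancel_right]
  have q2 : π c2 = a2 := by rw [hc2, map_mul, map_mul, map_inv, q1, hy, h.y1, mul_inv_cancel_right]
  have q3 : π c3 = a0 * a1 := by rw [hc3, map_mul, map_mul, map_inv, q2, hy, h.y2, mul_inv_cancel_right]
  obtain ⟨c, hc⟩ : ∃ c, c = (b * c1)⁻¹ * c3 := ⟨_, rfl⟩
  have hcker : c ∈ π.ker := by rw [MonoidHom.mem_ker, hc, map_mul, map_inv, map_mul, hb, q1, q3, inv_mul_cancel]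
  have hcc : ∀ g, g * c = c * g := Subgroup.mem_center_iff.1 (hker hcker)
  have e3 : c3 = b * c1 * c := by rw [hc]; group
  obtain ⟨z, hz, hz1⟩ := exists_z (π := π) (a := b) (b := c1) (by rw [hb, q1, h.c01])
  obtain ⟨w, hw, hw1⟩ := exists_z (π := π) (a := b) (b := c2) (by rw [hb, q2, h.c02])
  have hzc : ∀ g, g * z = z * g := Subgroup.mem_center_iff.1 (hker hz)
  have hwc : ∀ g, g * w = w * g := Subgroup.mem_center_iff.1 (hker hw)
  have cj : ∀ u v : H, y' * (u * v) * y'⁻¹ = (y' * u * y'⁻¹) * (y' * v * y'⁻¹) := fun u v => by group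
  have cjz : y' * z * y'⁻¹ = z := by rw [hzc, mul_inv_cancel_right]
  have cjw : y' * w * y'⁻¹ = w := by rw [hwc, mul_inv_cancel_right]
  have hz2 : c1 * c2 = z * (c2 * c1) := by
    have := congrArg (fun u => y' * u * y'⁻¹) hz1
    simp only [cj, cjz, ← hc1, ← hc2] at this
    exact this
  have hz3 : c2 * c3 = z * (c3 * c2) := by
    have := congrArg (fun u => y' * u * y'⁻¹) hz2
    simp only [cj, cjz, ← hc2, ← hc3] at this
    exact this
  have hw2 : c1 * c3 = w * (c3 * c1) := by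
    have := congrArg (fun u => y' * u * y'⁻¹) hw1
    simp only [cj, cjw, ← hc1, ← hc3] at this
    exact this
  have h1 : z * w * (c2 * c3) = c3 * c2 := by
    calc z * w * (c2 * c3) = z * (w * (c2 * b)) * c1 * c := by rw [e3]; group
      _ = z * (b * c2) * c1 * c := by rw [hw1]
      _ = (z * b) * (c2 * c1) * c := by group
      _ = b * (z * (c2 * c1)) * c := by rw [← hzc b]; group
      _ = b * c1 * (c2 * c) := by rw [← hz2]; group
      _ = b * c1 * c * c2 := by rw [hcc]; group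
      _ = c3 * c2 := by rw [e3]
  have h2 : z * (c1 * c3) = c3 * c1 := by
    calc z * (c1 * c3) = (z * (c1 * b)) * c1 * c := by rw [e3]; group
      _ = b * c1 * (c1 * c) := by rw [← hz1]; group
      _ = b * c1 * c * c1 := by rw [hcc]; group
      _ = c3 * c1 := by rw [e3]
  have h3 : z * w = 1 := by
    rw [hw2] at h2
    have : z * w * (c3 * c1) = 1 * (c3 * c1) := by rw [one_mul, mul_assoc]; exact h2
    exact mul_right_cancel this
  have h4 : z = 1 := by
    rw [h3, one_mul, hz3] at h1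
    have : z * (c3 * c2) = 1 * (c3 * c2) := by rw [one_mul]; exact h1
    exact mul_right_cancel this
  have h5 : w = 1 := by rw [h4, one_mul] at h3; exact h3
  rw [h4, one_mul] at hz1 hz2
  rw [h5, one_mul] at hw1
  have y0' : y' * b = c1 * y' := by rw [hc1]; group
  have y1' : y' * c1 = c2 * y' := by rw [hc2]; group
  have y2' : y' * c2 = c3 * y' := by rw [hc3]; group
  -- the corrected lifts
  have hccm : ∀ g, Commute c g := fun g => (hcc g).symm
  have m01 : (b * c) * (c1 * c) = (c1 * c) * (b * c) :=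
    ((show Commute b c1 from hz1).mul_right (hccm b).symm).mul_left ((hccm c1).mul_right (Commute.refl c))
  have m02 : (b * c) * (c2 * c) = (c2 * c) * (b * c) :=
    ((show Commute b c2 from hw1).mul_right (hccm b).symm).mul_left ((hccm c2).mul_right (Commute.refl c))
  have m12 : (c1 * c) * (c2 * c) = (c2 * c) * (c1 * c) :=
    ((show Commute c1 c2 from hz2).mul_right (hccm c1).symm).mul_left ((hccm c2).mul_right (Commute.refl c))
  have n0 : y' * (b * c) = (c1 * c) * y' := by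
    rw [← mul_assoc, y0', mul_assoc, hcc y', ← mul_assoc]
  have n1 : y' * (c1 * c) = (c2 * c) * y' := by
    rw [← mul_assoc, y1', mul_assoc, hcc y', ← mul_assoc]
  have n2 : y' * (c2 * c) = (b * c) * (c1 * c) * y' := by
    rw [← mul_assoc, y2', e3, mul_assoc (b * c1 * c), hcc y']
    calc b * c1 * c * (c * y') = b * (c1 * c) * c * y' := by group
      _ = b * (c * c1) * c * y' := by rw [hcc c1]
      _ = (b * c) * (c1 * c) * y' := by group
  have r0 : π (b * c) = a0 := by rw [map_mul, hb, MonoidHom.mem_ker.1 hcker, mul_one]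
  have r1 : π (c1 * c) = a1 := by rw [map_mul, q1, MonoidHom.mem_ker.1 hcker, mul_one]
  have r2 : π (c2 * c) = a2 := by rw [map_mul, q2, MonoidHom.mem_ker.1 hcker, mul_one]
  generalize b * c = b0 at *
  generalize c1 * c = b1 at *
  generalize c2 * c = b2 at *
  -- the cubes
  have hd : b0 ^ 3 ∈ π.ker := by rw [MonoidHom.mem_ker, map_pow, r0, h.cube]
  have hdc : ∀ g, g * b0 ^ 3 = b0 ^ 3 * g := Subgroup.mem_center_iff.1 (hker hd)
  have i0 : b1 = y' * b0 * y'⁻¹ := by rw [n0, mul_inv_cancel_right]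
  have i1 : b2 = y' * b1 * y'⁻¹ := by rw [n1, mul_inv_cancel_right]
  have i2 : b0 * b1 = y' * b2 * y'⁻¹ := by rw [n2, mul_inv_cancel_right]
  have f1 : b1 ^ 3 = b0 ^ 3 := by rw [i0, conj_pow, hdc, mul_inv_cancel_right]
  have f2 : b2 ^ 3 = b0 ^ 3 := by rw [i1, conj_pow, f1, hdc, mul_inv_cancel_right]
  have f3 : (b0 * b1) ^ 3 = b0 ^ 3 := by rw [i2, conj_pow, f2, hdc, mul_inv_cancel_right]
  have f4 : b0 ^ 3 = 1 := by
    have hcm : Commute b0 b1 := m01
    rw [hcm.mul_pow, f1] at f3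
    exact mul_eq_left.1 f3
  rw [f4] at f1 f2
  -- the conjugates under `t'`
  have hk : ∀ u v : H, π u = π v → v⁻¹ * u ∈ π.ker := by
    intro u v huv
    rw [MonoidHom.mem_ker, map_mul, map_inv, huv, inv_mul_cancel]
  have g0 := hk (t' * b0 * t'⁻¹) b0 (by rw [map_mul, map_mul, map_inv, r0, ht, h.t0, mul_inv_cancel_right])
  have g1 := hk (t' * b1 * t'⁻¹) b1 (by rw [map_mul, map_mul, map_inv, r1, ht, h.t1, mul_inv_cancel_right])
  have g2 := hk (t' * b2 * t'⁻¹) (b2 * b0)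
    (by rw [map_mul, map_mul, map_inv, r2, ht, h.t2, map_mul, r2, r0, mul_inv_cancel_right])
  have hcube : ∀ u v k : H, k ∈ π.ker → v = u * k → u ^ 3 = 1 → v ^ 3 = 1 → k ^ 3 = 1 := by
    intro u v k hk hv hu3 hv3
    have hcm : Commute u k := Subgroup.mem_center_iff.1 (hker hk) u
    rw [hv, hcm.mul_pow, hu3, one_mul] at hv3
    exact hv3
  have h20 : (b2 * b0) ^ 3 = 1 := by
    have hcm : Commute b2 b0 := m02.symm
    rw [hcm.mul_pow, f2, f4, one_mul]
  refine ⟨b0, b1, b2, _, _, _, ⟨m01, m02, m12, n0, n1, n2, by group, by group, by group, f4, f1, f2,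
    hcube b0 (t' * b0 * t'⁻¹) _ g0 (by group) f4 (by rw [conj_pow, f4, mul_one, mul_inv_cancel]),
    hcube b1 (t' * b1 * t'⁻¹) _ g1 (by group) f1 (by rw [conj_pow, f1, mul_one, mul_inv_cancel]),
    hcube (b2 * b0) (t' * b2 * t'⁻¹) _ g2 (by group) h20 (by rw [conj_pow, f2, mul_one, mul_inv_cancel]),
    g0, g1, g2, ?_⟩, r0⟩
  rw [MonoidHom.mem_ker, map_pow, hy, h.y13]

end

end Cfsg.Agent.H484.RIM
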