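import Cfsg.Agent.H484.RIM.Three
import Cfsg.Agent.H524.RIM.PX

/-!
# No module with all orbits prime to `p` for central extensions of a group containing `3 ^ 3 : ⟨y, t⟩` (S4816; helper484)
-/

set_option autoImplicit false
set_option linter.style.haveILetI false
set_option linter.unusedSectionVars false

namespace Cfsg.Agent.H484.RIM

open Module Cfsg.Agent.H887.RIM Cfsg.Agent.H524.RIM

section

variable {p : ℕ} [hp : Fact p.Prime] {H S V : Type*} [Group H] [Finite H] [Group S] [AddCommGroup V] [Finite V]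
  [DistribMulAction H V]

/-- the codimension of the fixed space of `y` is at least 24 -/
theorem index_y (hp3 : p ≠ 3) (hV : ∀ v : V, p • v = 0) (hf : ∀ g : H, (∀ v : V, g • v = v) → g = 1) (π : H →* S)
    (hπ : Function.Surjective π) (hker : π.ker ≤ Subgroup.center H) (hZp : ¬ p ∣ Nat.card π.ker) {a0 a1 a2 y t : S}
    (h : Three a0 a1 a2 y t) {y' : H} (hy : π y' = y) : p ^ 24 ≤ (fx V (Subgroup.zpowers y')).index := by
  obtain ⟨b, hb⟩ := hπ a0
  obtain ⟨t', ht⟩ := hπ t
  obtain ⟨b0, b1, b2, k0, k1, k2, hL, hb0⟩ := lift π hker h hb hy ht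
  obtain ⟨K, _, _, _, W, _, _, _, ρ, hcard, hkerρ, hfix⟩ := exists_lin (H := H) hp.out hV
  have hρ : ρ b0 ≠ 1 := by
    intro h1
    have h2 := hf b0 ((hkerρ b0).1 h1)
    rw [h2, map_one] at hb0
    exact h.ne hb0.symm
  have h1 := core hp3 ρ hker hZp hL hρ
  have h2 := card_mul_index V (Subgroup.zpowers y')
  have h3 : Nat.card (fx V (Subgroup.zpowers y')) = Nat.card {v : V // y' • v = v} :=
    Nat.card_congr (Equiv.subtypeEquivRight fun v => mem_fx_zpowers)
  rw [h3, hfix, hcard] at h2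
  obtain ⟨d, hd⟩ := Nat.exists_eq_add_of_le h1
  rw [hd, add_assoc, pow_add] at h2
  have h4 : (fx V (Subgroup.zpowers y')).index = p ^ (24 + d) :=
    Nat.eq_of_mul_eq_mul_left (pow_pos hp.out.pos _) h2
  rw [h4]
  exact Nat.pow_le_pow_right hp.out.pos (by omega)

/-- the codimension of `C_V(x)` is at least 12 if `y = x x ^ g` -/
theorem index_x (hp3 : p ≠ 3) (hV : ∀ v : V, p • v = 0) (hf : ∀ g : H, (∀ v : V, g • v = v) → g = 1) (π : H →* S)
    (hπ : Function.Surjective π) (hker : π.ker ≤ Subgroup.center H) (hZp : ¬ p ∣ Nat.card π.ker) {a0 a1 a2 y t x g : S}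
    (h : Three a0 a1 a2 y t) (hxg : y * g = x * (g * x)) {x' : H} (hx : π x' = x) :
    p ^ 12 ≤ (fx V (Subgroup.zpowers x')).index := by
  obtain ⟨g', hg⟩ := hπ g
  have h1 := index_y hp3 hV hf π hπ hker hZp h (y' := x' * (g' * x' * g'⁻¹)) (by
    rw [map_mul, map_mul, map_mul, map_inv, hx, hg, ← mul_assoc, ← hxg, mul_inv_cancel_right])
  have h2 := index_fx_mul_le (V := V) x' (g' * x' * g'⁻¹)
  have h3 := index_fx_conj (V := V) (Subgroup.zpowers x') g'
  have h4 : (Subgroup.zpowers x').map (MulAut.conj g').toMonoidHom = Subgroup.zpowers (g' * x' * g'⁻¹) := by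
    rw [MonoidHom.map_zpowers]
    rfl
  rw [h4] at h3
  rw [h3] at h2
  have h5 := h1.trans h2
  by_contra hcon
  push Not at hcon
  have h6 := Nat.mul_lt_mul'' hcon hcon
  have h7 : p ^ 24 = p ^ 12 * p ^ 12 := by rw [← pow_add]
  rw [h7] at h5
  exact absurd h5 (not_le.2 h6)

theorem px_false (hp3 : p ≠ 3) [Finite S] (hPX : PX p H V) (π : H →* S) (hπ : Function.Surjective π)
    (hker : π.ker ≤ Subgroup.center H) (hZp : ¬ p ∣ Nat.card π.ker) {a0 a1 a2 y t x g : S}
    (h : Three a0 a1 a2 y t) (hxg : y * g = x * (g * x)) (hx : x ^ p = 1) (hx1 : x ≠ 1)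
    (hfac : ¬ p ^ 2 ∣ Nat.card S) (M : Subgroup S) (hM : ∀ m ∈ M, m * x * m⁻¹ ∈ Subgroup.zpowers x)
    (hcard : Nat.card S < p ^ 12 * Nat.card M) : False := by
  classical
  set Z := π.ker with hZ
  obtain ⟨x0, hx0⟩ := hπ x
  have hcop : Nat.Coprime p (Nat.card Z) := (Nat.Prime.coprime_iff_not_dvd hp.out).2 hZp
  -- a lift of order `p`
  obtain ⟨m, hm1, hm2⟩ := Nat.chineseRemainder hcop 1 0
  have hZpow : ∀ z ∈ Z, z ^ Nat.card Z = 1 := by
    intro z hz
    have := pow_card_eq_one' (x := (⟨z, hz⟩ : Z))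
    exact congrArg Subtype.val this
  have hZm : ∀ z ∈ Z, z ^ m = 1 := by
    intro z hz
    obtain ⟨c, hc⟩ := (Nat.modEq_zero_iff_dvd.1 hm2)
    rw [hc, pow_mul, hZpow z hz, one_pow]
  set x' := x0 ^ m with hx'
  have hπx : π x' = x := by
    rw [hx', map_pow, hx0]
    have : x ^ m = x ^ 1 := pow_eq_pow_of_modEq hm1 hx
    rw [this, pow_one]
  have hx'p : x' ^ p = 1 := by
    rw [hx', ← pow_mul, mul_comm, pow_mul]
    apply hZm
    rw [hZ, MonoidHom.mem_ker, map_pow, hx0, hx]
  have hx'1 : x' ≠ 1 := by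
    intro h1
    rw [h1, map_one] at hπx
    exact hx1 hπx.symm
  have hord : orderOf x' = p := orderOf_eq_prime hx'p hx'1
  have hordx : orderOf x = p := orderOf_eq_prime hx hx1
  -- the Sylow subgroup
  have hcH : Nat.card H = Nat.card Z * Nat.card S := by
    rw [← Subgroup.card_mul_index Z, hZ, Subgroup.index_ker, MonoidHom.range_eq_top.2 hπ, Subgroup.card_top]
  have hpS : p ∣ Nat.card S := by rw [← hordx]; exact orderOf_dvd_natCard x
  have hfacS : (Nat.card S).factorization p = 1 := by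
    have h1 : 1 ≤ (Nat.card S).factorization p := (hp.out.dvd_iff_one_le_factorization Nat.card_pos.ne').1 hpS
    have h2 : ¬ 2 ≤ (Nat.card S).factorization p := fun h2 =>
      hfac ((hp.out.pow_dvd_iff_le_factorization Nat.card_pos.ne').2 h2)
    omega
  have hfacH : (Nat.card H).factorization p = 1 := by
    rw [hcH, Nat.factorization_mul Nat.card_pos.ne' Nat.card_pos.ne', Finsupp.add_apply, hfacS,
      Nat.factorization_eq_zero_of_not_dvd hZp]
  let P : Sylow p H := Sylow.ofCard (Subgroup.zpowers x') (by rw [Nat.card_zpowers, hord, hfacH, pow_one])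
  have hP : (P : Subgroup H) = Subgroup.zpowers x' := Sylow.coe_ofCard _ _
  have h1 := hPX.index_le P
  have hP' : (P : Set H) = ((Subgroup.zpowers x' : Subgroup H) : Set H) := congrArg SetLike.coe hP
  rw [hP, Sylow.card_eq_index_normalizer P, hP'] at h1
  have h2 := index_x (V := V) hp3 hPX.exp hPX.faith π hπ hker hZp h hxg hπx
  -- the normaliser
  have h3 : M.comap π ≤ Subgroup.normalizer ((Subgroup.zpowers x' : Subgroup H) : Set H) := by
    intro n hn
    have h4 := hM (π n) hn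
    obtain ⟨i, hi⟩ := h4
    have h5 : (x' ^ i)⁻¹ * (n * x' * n⁻¹) ∈ Z := by
      rw [hZ, MonoidHom.mem_ker, map_mul, map_inv, map_zpow, map_mul, map_mul, map_inv, hπx]
      have : x ^ i = π n * x * (π n)⁻¹ := hi
      rw [this, inv_mul_cancel]
    set k := (x' ^ i)⁻¹ * (n * x' * n⁻¹) with hk
    have h6 : n * x' * n⁻¹ = x' ^ i * k := by rw [hk]; group
    have hkc : ∀ g : H, g * k = k * g := Subgroup.mem_center_iff.1 (hker h5)
    have h7 : k ^ p = 1 := by
      have h8 : (n * x' * n⁻¹) ^ p = 1 := by rw [conj_pow, hx'p, mul_one, mul_inv_cancel]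
      have h9 : Commute (x' ^ i) k := hkc _
      rw [h6, h9.mul_pow] at h8
      have h10 : (x' ^ i) ^ p = 1 := by rw [← zpow_natCast, ← zpow_mul, mul_comm, zpow_mul, zpow_natCast, hx'p, one_zpow]
      rwa [h10, one_mul] at h8
    have h8 : k = 1 := by
      have h9 := orderOf_dvd_of_pow_eq_one h7
      have h10 := orderOf_dvd_of_pow_eq_one (hZpow k h5)
      exact orderOf_eq_one_iff.1 (Nat.eq_one_of_dvd_coprimes hcop h9 h10)
    rw [h8, mul_one] at h6
    haveI : Finite ((Subgroup.zpowers x' : Subgroup H) : Set H) := inferInstanceAs (Finite (Subgroup.zpowers x'))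
    apply Subgroup.mem_normalizer_fintype
    rintro _ ⟨j, rfl⟩
    change n * x' ^ j * n⁻¹ ∈ _
    rw [← conj_zpow, h6]
    exact zpow_mem (zpow_mem (Subgroup.mem_zpowers x') i) j
  have h4 : (Subgroup.normalizer ((Subgroup.zpowers x' : Subgroup H) : Set H)).index ≤ M.index := by
    rw [← Subgroup.index_comap_of_surjective M hπ]
    exact Nat.le_of_dvd (Nat.pos_of_ne_zero Subgroup.index_ne_zero_of_finite) (Subgroup.index_dvd_of_le h3)
  have h5 : p ^ 12 ≤ M.index := h2.trans (h1.trans h4)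
  have h6 := Subgroup.card_mul_index M
  have h7 : p ^ 12 * Nat.card M ≤ Nat.card S := by
    rw [← h6, mul_comm]
    exact Nat.mul_le_mul_left _ h5
  omega

end

end Cfsg.Agent.H484.RIM
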