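import Mathlib
import Cfsg.Prelude.Def_Classical
import Cfsg.Agent.LieClassical.OmegaReindex
import Cfsg.Agent.H957.Bridge

/-!
# Explicit elements of `Ω₇(3)` (S4816, row O7(3); helper484)

`a0, a1, a2` generate the centre `3 ^ 3` of the unipotent radical of the parabolic subgroup `3 ^ (3 + 3) : L₃(3)`, `y` (order 13)
and `t` (order 3) lie in the complement; `y = x5 x5 ^ g5 = x7 x7 ^ g7` with `x5`, `x7` of order 5, 7; `z = r s` normalises `⟨x5⟩`.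
-/

set_option autoImplicit false
set_option maxRecDepth 100000

namespace Cfsg.Agent.H484.RIM.O73Mat

open Matrix QuadraticMap Cfsg

abbrev R := ZMod 3
abbrev Ix := Unit ⊕ (Fin 3 ⊕ Fin 3)
abbrev Mx := Matrix Ix Ix R

instance fact3 : Fact (Nat.Prime 3) := ⟨Nat.prime_three⟩

def ix : Ix → ℕ
  | .inl _ => 0
  | .inr (.inl i) => 1 + i
  | .inr (.inr i) => 4 + i

def cf : ℕ → R
  | 0 => 0
  | 1 => 1
  | _ => 2

def mk (l : List (List ℕ)) : Mx := fun i j => cf ((l.getD (ix i) []).getD (ix j) 0)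

/-- the Gram matrix -/
def B : Mx := mk [[1, 0, 0, 0, 0, 0, 0], [0, 0, 0, 0, 2, 0, 0], [0, 0, 0, 0, 0, 2, 0], [0, 0, 0, 0, 0, 0, 2], [0, 2, 0, 0, 0, 0, 0], [0, 0, 2, 0, 0, 0, 0], [0, 0, 0, 2, 0, 0, 0]]

def B' : Mx := mk [[1, 0, 0, 0, 0, 0, 0], [0, 0, 0, 0, 2, 0, 0], [0, 0, 0, 0, 0, 2, 0], [0, 0, 0, 0, 0, 0, 2], [0, 2, 0, 0, 0, 0, 0], [0, 0, 2, 0, 0, 0, 0], [0, 0, 0, 2, 0, 0, 0]]

def Ma0 : Mx := mk [[1, 0, 0, 0, 0, 0, 0], [0, 1, 0, 0, 0, 0, 0], [0, 0, 1, 0, 0, 0, 2], [0, 0, 0, 1, 0, 1, 0], [0, 0, 0, 0, 1, 0, 0], [0, 0, 0, 0, 0, 1, 0], [0, 0, 0, 0, 0, 0, 1]]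
def Ma1 : Mx := mk [[1, 0, 0, 0, 0, 0, 0], [0, 1, 0, 0, 0, 0, 1], [0, 0, 1, 0, 0, 0, 0], [0, 0, 0, 1, 2, 0, 0], [0, 0, 0, 0, 1, 0, 0], [0, 0, 0, 0, 0, 1, 0], [0, 0, 0, 0, 0, 0, 1]]
def Ma2 : Mx := mk [[1, 0, 0, 0, 0, 0, 0], [0, 1, 0, 0, 0, 2, 0], [0, 0, 1, 0, 1, 0, 0], [0, 0, 0, 1, 0, 0, 0], [0, 0, 0, 0, 1, 0, 0], [0, 0, 0, 0, 0, 1, 0], [0, 0, 0, 0, 0, 0, 1]]
def My : Mx := mk [[1, 0, 0, 0, 0, 0, 0], [0, 2, 0, 1, 0, 0, 0], [0, 1, 0, 0, 0, 0, 0], [0, 0, 1, 0, 0, 0, 0], [0, 0, 0, 0, 0, 0, 1], [0, 0, 0, 0, 1, 0, 1], [0, 0, 0, 0, 0, 1, 0]]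
def Mt : Mx := mk [[1, 0, 0, 0, 0, 0, 0], [0, 1, 0, 0, 0, 0, 0], [0, 0, 1, 0, 0, 0, 0], [0, 2, 0, 1, 0, 0, 0], [0, 0, 0, 0, 1, 0, 1], [0, 0, 0, 0, 0, 1, 0], [0, 0, 0, 0, 0, 0, 1]]
def Mx5 : Mx := mk [[2, 1, 2, 2, 0, 1, 2], [0, 2, 0, 1, 1, 2, 1], [1, 1, 0, 1, 2, 2, 0], [1, 2, 2, 1, 0, 0, 2], [0, 0, 0, 1, 0, 2, 0], [1, 1, 2, 2, 0, 2, 2], [2, 2, 1, 2, 1, 1, 1]]
def Mg5 : Mx := mk [[1, 0, 1, 1, 0, 2, 1], [1, 2, 1, 1, 2, 0, 1], [1, 0, 2, 0, 2, 1, 2], [2, 1, 0, 0, 2, 0, 2], [1, 2, 0, 2, 0, 1, 1], [2, 1, 1, 1, 0, 2, 0], [0, 2, 2, 0, 0, 0, 2]]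
def Mx7 : Mx := mk [[0, 1, 2, 1, 1, 2, 2], [2, 0, 0, 2, 0, 2, 1], [1, 2, 0, 1, 0, 0, 2], [2, 2, 1, 0, 2, 1, 1], [0, 2, 2, 0, 0, 0, 0], [1, 2, 1, 2, 1, 2, 2], [0, 2, 2, 0, 1, 2, 1]]
def Mg7 : Mx := mk [[2, 2, 0, 1, 0, 0, 0], [2, 1, 1, 2, 2, 0, 0], [1, 2, 0, 1, 1, 0, 0], [2, 1, 1, 0, 2, 0, 0], [1, 2, 0, 1, 0, 1, 2], [0, 1, 0, 0, 0, 1, 0], [2, 1, 0, 2, 0, 0, 1]]
def Mr : Mx := mk [[1, 1, 2, 1, 0, 0, 0], [0, 0, 0, 0, 1, 1, 0], [1, 0, 0, 1, 1, 2, 2], [2, 2, 1, 0, 0, 2, 1], [2, 0, 1, 2, 1, 1, 2], [0, 2, 1, 2, 2, 1, 2], [0, 1, 2, 1, 1, 0, 2]]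
def Ms : Mx := mk [[0, 1, 1, 1, 1, 1, 2], [0, 1, 2, 0, 0, 0, 0], [2, 2, 2, 1, 1, 1, 1], [1, 0, 1, 2, 2, 2, 0], [2, 2, 2, 2, 2, 1, 1], [1, 0, 1, 2, 1, 1, 2], [2, 2, 2, 0, 2, 2, 1]]

theorem B'_mul : B' * B = 1 := by decide +kernel

abbrev Q : (Ix → R) → R := quadFormOdd 3 R

theorem Q_eq (v : Ix → R) : Q v = v ⬝ᵥ (B *ᵥ v) := by
  have h3 : (3 : R) = 0 := by decide
  simp only [Q, quadFormOdd, dotProduct, mulVec, Fintype.sum_sum_type, Finset.univ_unique, Finset.sum_singleton,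
    Fin.sum_univ_three, B, mk, ix, cf]
  simp
  linear_combination (-(v (.inr (.inl 0)) * v (.inr (.inr 0))) - v (.inr (.inl 1)) * v (.inr (.inr 1))
    - v (.inr (.inl 2)) * v (.inr (.inr 2))) * h3

theorem iso_of {M : Mx} (h : Mᵀ * B * M = B) (v : Ix → R) : Q (M *ᵥ v) = Q v := by
  rw [Q_eq, Q_eq, Matrix.mulVec_mulVec, Matrix.dotProduct_mulVec, Matrix.vecMul_mulVec, ← Matrix.dotProduct_mulVec,
    ← Matrix.mul_assoc, h]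

/-- the element of the isometry group -/
def el (M : Mx) (h : Mᵀ * B * M = B) : isometryGroup R Q :=
  ⟨⟨M, B' * Mᵀ * B, by
      have h1 : B' * Mᵀ * B * M = 1 := by
        rw [Matrix.mul_assoc, Matrix.mul_assoc, ← Matrix.mul_assoc Mᵀ, h, B'_mul]
      exact mul_eq_one_comm.1 h1, by
      rw [Matrix.mul_assoc, Matrix.mul_assoc, ← Matrix.mul_assoc Mᵀ, h, B'_mul]⟩,
    fun u _ => iso_of h u⟩

theorem el_val (M : Mx) (h : Mᵀ * B * M = B) : ((el M h : GL Ix R) : Mx) = M := rfl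

theorem Q_coe : ⇑(Cfsg.Agent.LieClassical.OmegaReindex.quadOdd 3 R) = Q :=
  Cfsg.Agent.LieClassical.OmegaReindex.coe_quadOdd 3 R

theorem mem_Om {M : Mx} (h : Mᵀ * B * M = B) {n : ℕ} (hn : Odd n) (hM : M ^ n = 1) : el M h ∈ Omega R Q := by
  have h1 := @Cfsg.Agent.H957.mem_Omega_of_odd Ix _ _ R _ (Cfsg.Agent.LieClassical.OmegaReindex.quadOdd 3 R)
    (Cfsg.Agent.LieClassical.OmegaReindex.quadOdd_nondegenerate (by decide))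
    (Or.inl (by rw [Nat.card_zmod]; norm_num)) n hn
  rw [Q_coe] at h1
  refine h1 (el M h) ?_
  apply Subtype.ext
  apply Units.ext
  exact hM

/-- the element of `Ω` -/
def om (M : Mx) (h : Mᵀ * B * M = B) {n : ℕ} (hn : Odd n) (hM : M ^ n = 1) : Omega R Q := ⟨el M h, mem_Om h hn hM⟩

theorem om_val (M : Mx) (h : Mᵀ * B * M = B) {n : ℕ} (hn : Odd n) (hM : M ^ n = 1) :
    ((((om M h hn hM : Omega R Q) : isometryGroup R Q) : GL Ix R) : Mx) = M := rfl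

theorem om_ext {u v : Omega R Q} (h : (((u : isometryGroup R Q) : GL Ix R) : Mx) = (((v : isometryGroup R Q) : GL Ix R) : Mx)) :
    u = v := Subtype.ext (Subtype.ext (Units.ext h))

def oa0 : Omega R Q := om Ma0 (by decide +kernel) (n := 3) (by decide) (by decide +kernel)
def oa1 : Omega R Q := om Ma1 (by decide +kernel) (n := 3) (by decide) (by decide +kernel)
def oa2 : Omega R Q := om Ma2 (by decide +kernel) (n := 3) (by decide) (by decide +kernel)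
def oy : Omega R Q := om My (by decide +kernel) (n := 13) (by decide) (by decide +kernel)
def ot : Omega R Q := om Mt (by decide +kernel) (n := 3) (by decide) (by decide +kernel)
def ox5 : Omega R Q := om Mx5 (by decide +kernel) (n := 5) (by decide) (by decide +kernel)
def og5 : Omega R Q := om Mg5 (by decide +kernel) (n := 7) (by decide) (by decide +kernel)
def ox7 : Omega R Q := om Mx7 (by decide +kernel) (n := 7) (by decide) (by decide +kernel)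
def og7 : Omega R Q := om Mg7 (by decide +kernel) (n := 5) (by decide) (by decide +kernel)
def or' : Omega R Q := om Mr (by decide +kernel) (n := 5) (by decide) (by decide +kernel)
def os : Omega R Q := om Ms (by decide +kernel) (n := 13) (by decide) (by decide +kernel)

theorem c01 : oa0 * oa1 = oa1 * oa0 := om_ext (show Ma0 * Ma1 = Ma1 * Ma0 by decide +kernel)
theorem c02 : oa0 * oa2 = oa2 * oa0 := om_ext (show Ma0 * Ma2 = Ma2 * Ma0 by decide +kernel)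
theorem y0 : oy * oa0 = oa1 * oy := om_ext (show My * Ma0 = Ma1 * My by decide +kernel)
theorem y1 : oy * oa1 = oa2 * oy := om_ext (show My * Ma1 = Ma2 * My by decide +kernel)
theorem y2 : oy * oa2 = oa0 * oa1 * oy := om_ext (show My * Ma2 = Ma0 * Ma1 * My by decide +kernel)
theorem t0 : ot * oa0 = oa0 * ot := om_ext (show Mt * Ma0 = Ma0 * Mt by decide +kernel)
theorem t1 : ot * oa1 = oa1 * ot := om_ext (show Mt * Ma1 = Ma1 * Mt by decide +kernel)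
theorem t2 : ot * oa2 = oa2 * oa0 * ot := om_ext (show Mt * Ma2 = Ma2 * Ma0 * Mt by decide +kernel)
theorem a3 : oa0 ^ 3 = 1 := om_ext (show Ma0 ^ 3 = 1 by decide +kernel)
theorem y13 : oy ^ 13 = 1 := om_ext (show My ^ 13 = 1 by decide +kernel)
theorem x5_5 : ox5 ^ 5 = 1 := om_ext (show Mx5 ^ 5 = 1 by decide +kernel)
theorem x7_7 : ox7 ^ 7 = 1 := om_ext (show Mx7 ^ 7 = 1 by decide +kernel)
theorem yx5 : oy * og5 = ox5 * (og5 * ox5) := om_ext (show My * Mg5 = Mx5 * (Mg5 * Mx5) by decide +kernel)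
theorem yx7 : oy * og7 = ox7 * (og7 * ox7) := om_ext (show My * Mg7 = Mx7 * (Mg7 * Mx7) by decide +kernel)
theorem z5 : (or' * os) * ox5 = ox5 ^ 2 * (or' * os) :=
  om_ext (show (Mr * Ms) * Mx5 = Mx5 ^ 2 * (Mr * Ms) by decide +kernel)
theorem a_ne : oa0 ≠ oa1 := by
  intro h
  have h1 : Ma0 = Ma1 := congrArg (fun u : Omega R Q => (((u : isometryGroup R Q) : GL Ix R) : Mx)) h
  revert h1
  decide +kernel

end Cfsg.Agent.H484.RIM.O73Mat
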