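import Cfsg.Agent.H887.RIM.AT2
import Cfsg.Agent.H484.RIM.Lift
import Cfsg.Agent.H484.RIM.Comb

/-!
# The group `3 ^ 3 : ⟨y, t⟩`: the element `y` has codimension at least 24 (S4816, row O7(3); helper484)

`core` : in every representation (characteristic `≠ 3`, prime to the kernel) of a central extension in which the lifts of `a0` are
not trivial, the lifts of `y` have a fixed space of codimension at least `24`.
-/

set_option autoImplicit false
set_option linter.style.haveILetI false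
set_option linter.unusedSectionVars false

namespace Cfsg.Agent.H484.RIM

open Module Cfsg.Agent.H912.Bd Cfsg.Agent.H887.RIM

theorem exists_e (K : Type*) [Field K] [IsAlgClosed K] (h3 : (3 : K) ≠ 0) :
    ∃ e : ZMod 3 → Kˣ, (∀ a b, e (a + b) = e a * e b) ∧ Function.Injective e ∧ ∀ u : Kˣ, u ^ 3 = 1 → ∃ a, u = e a := by
  haveI : NeZero ((3 : ℕ) : K) := ⟨by simpa using h3⟩
  obtain ⟨ω, hω⟩ := HasEnoughRootsOfUnity.exists_primitiveRoot K 3
  obtain ⟨w, rfl⟩ : ∃ w : Kˣ, (w : K) = ω := ⟨(hω.isUnit (by norm_num)).unit, rfl⟩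
  have hw : IsPrimitiveRoot w 3 := IsPrimitiveRoot.coe_units_iff.1 hω
  refine ⟨fun a => w ^ a.val, ?_, ?_, ?_⟩
  · intro a b
    rw [← pow_add]
    apply pow_eq_pow_of_modEq _ hw.pow_eq_one
    rw [ZMod.val_add]
    exact Nat.mod_modEq _ _
  · intro a b hab
    exact ZMod.val_injective 3 (hw.pow_inj (ZMod.val_lt a) (ZMod.val_lt b) hab)
  · intro u hu
    obtain ⟨i, hi, rfl⟩ := hw.eq_pow_of_mem_rootsOfUnity (k := 3) (by rwa [mem_rootsOfUnity])
    exact ⟨(i : ZMod 3), by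
      change w ^ i = w ^ (i : ZMod 3).val
      rw [ZMod.val_natCast_of_lt hi]⟩


section wts

variable {K : Type*} [Field K] {W : Type*} [AddCommGroup W] [Module K W] {L : Type*} [Group L]
  (ρ : L →* Module.End K W) {A : Subgroup L} [FiniteDimensional K W] [IsAlgClosed K] [Finite A]
  (hA : ∀ a ∈ A, ∀ b ∈ A, a * b = b * a) (hN : (Nat.card A : K) ≠ 0)
include hA hN

/-- E4 for an element `x` such that `x ^ s` centralises `A` -/
theorem at0z {x : L} (hx : ∀ a ∈ A, x * a * x⁻¹ ∈ A) {s : ℕ} (hs : s.Prime) (hxs : ∀ a ∈ A, x ^ s * a = a * x ^ s)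
    (T : Finset (A →* Kˣ)) (hT : ∀ χ ∈ T, wc ρ A χ ≠ ⊥ ∧ χ.comp (cjA hx) ≠ χ) :
    s * finrank K (LinearMap.ker (ρ x - 1)) + (s - 1) * T.card ≤ s * finrank K W := by
  classical
  haveI : Fintype (A →* Kˣ) := Fintype.ofFinite _
  have hX := norm_zpowers hx
  letI := cact K hX
  let x' : Subgroup.zpowers x := ⟨x, Subgroup.mem_zpowers x⟩
  let σ : Equiv.Perm (A →* Kˣ) := MulAction.toPerm x'
  have hσ : σ ^ s = 1 := by
    have h : MulAction.toPermHom (Subgroup.zpowers x) (A →* Kˣ) x' ^ s = 1 := by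
      rw [← map_pow]
      apply Equiv.ext
      intro χ
      change (x' ^ s) • χ = χ
      ext a
      change ((χ (cjA _ a) : Kˣ) : K) = χ a
      congr 2
      ext
      rw [cjA_coe]
      change ((x' ^ s)⁻¹ : Subgroup.zpowers x) * (a : L) * ((x' ^ s)⁻¹ : Subgroup.zpowers x)⁻¹ = a
      simp only [InvMemClass.coe_inv, SubmonoidClass.coe_pow, inv_inv]
      rw [mul_assoc, ← hxs a a.2, inv_mul_cancel_left]
    exact h
  have hg : ∀ χ, ∀ w ∈ wc ρ A χ, ρ x w ∈ wc ρ A (σ χ) := by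
    intro χ w hw
    exact map_wc ρ (hX _ ((x'⁻¹ : Subgroup.zpowers x)).2) hw
  have h1 := fix_le (wc_bij ρ hA hN) hg (rho_injective ρ x) hs hσ
  refine le_trans (Nat.add_le_add_left (Nat.mul_le_mul_left _ ?_) _) h1
  calc T.card = ∑ _χ ∈ T, 1 := by rw [Finset.sum_const, smul_eq_mul, mul_one]
    _ ≤ ∑ χ ∈ T, finrank K (wc ρ A χ) := Finset.sum_le_sum fun χ hχ => by
        rw [Nat.one_le_iff_ne_zero, Ne, Submodule.finrank_eq_zero]
        exact (hT χ hχ).1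
    _ ≤ _ := Finset.sum_le_sum_of_subset fun χ hχ => by
        refine Finset.mem_filter.2 ⟨Finset.mem_univ _, fun h => (hT χ hχ).2 ?_⟩
        have h2 : x'⁻¹ • χ = χ := by
          rw [inv_smul_eq_iff]
          exact h.symm
        have h3 : x'⁻¹ • χ = χ.comp (cjA hx) := by
          ext a
          change ((χ (cjA _ a) : Kˣ) : K) = χ (cjA _ a)
          congr 2
          ext
          simp [cjA_coe, x']
        rw [← h3, h2]

end wts

/-! ### the core -/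

theorem card26 : Fintype.card {v : V3 // v ≠ 0} = 26 := by decide +kernel

theorem core {H : Type*} [Group H] [Finite H] {p : ℕ} [hp : Fact p.Prime] (hp3 : p ≠ 3) {K : Type*} [Field K] [CharP K p]
    [IsAlgClosed K] {W : Type*} [AddCommGroup W] [Module K W] [FiniteDimensional K W] (ρ : H →* Module.End K W)
    {Z : Subgroup H} (hZ : Z ≤ Subgroup.center H) (hZp : ¬ p ∣ Nat.card Z) {b0 b1 b2 y t k0 k1 k2 : H}
    (h : ThreeL Z b0 b1 b2 y t k0 k1 k2) (hρ : ρ b0 ≠ 1) :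
    finrank K (LinearMap.ker (ρ y - 1)) + 24 ≤ finrank K W := by
  classical
  let G : Set H := (Z : Set H) ∪ {b0, b1, b2}
  let E : Subgroup H := Subgroup.closure G
  have hzc : ∀ k ∈ Z, ∀ g : H, g * k = k * g := fun k hk => Subgroup.mem_center_iff.1 (hZ hk)
  have hZG : ∀ k ∈ Z, k ∈ G := fun k hk => Or.inl hk
  have g0 : b0 ∈ G := Or.inr (by simp)
  have g1 : b1 ∈ G := Or.inr (by simp)
  have g2 : b2 ∈ G := Or.inr (by simp)
  have hG : ∀ a, a ∈ G ↔ a ∈ Z ∨ a = b0 ∨ a = b1 ∨ a = b2 := by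
    intro a
    simp only [G, Set.mem_union, SetLike.mem_coe, Set.mem_insert_iff, Set.mem_singleton_iff]
  have hZE : ∀ k ∈ Z, k ∈ E := fun k hk => Subgroup.subset_closure (hZG k hk)
  have h0 : b0 ∈ E := Subgroup.subset_closure g0
  have h1 : b1 ∈ E := Subgroup.subset_closure g1
  have h2 : b2 ∈ E := Subgroup.subset_closure g2
  have gcomm : ∀ a ∈ G, ∀ b ∈ G, a * b = b * a := by
    intro a ha b hb
    rw [hG] at ha hb
    rcases ha with ha | rfl | rfl | rfl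
    · exact (hzc a ha b).symm
    · rcases hb with hb | rfl | rfl | rfl
      · exact hzc b hb _
      · rfl
      · exact h.c01
      · exact h.c02
    · rcases hb with hb | rfl | rfl | rfl
      · exact hzc b hb _
      · exact h.c01.symm
      · rfl
      · exact h.c12
    · rcases hb with hb | rfl | rfl | rfl
      · exact hzc b hb _
      · exact h.c02.symm
      · exact h.c12.symm
      · rfl
  have hA : ∀ a ∈ E, ∀ b ∈ E, a * b = b * a := by
    have s1 : ∀ a ∈ G, ∀ b ∈ E, a * b = b * a := by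
      intro a ha b hb
      have : E ≤ Subgroup.centralizer {a} := by
        rw [Subgroup.closure_le]
        intro b hb
        rw [SetLike.mem_coe, Subgroup.mem_centralizer_singleton_iff]
        exact gcomm b hb a ha
      exact (Subgroup.mem_centralizer_singleton_iff.1 (this hb)).symm
    intro a ha b hb
    have : E ≤ Subgroup.centralizer {b} := by
      rw [Subgroup.closure_le]
      intro a ha
      rw [SetLike.mem_coe, Subgroup.mem_centralizer_singleton_iff]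
      exact s1 a ha b hb
    exact Subgroup.mem_centralizer_singleton_iff.1 (this ha)
  have hnorm : ∀ x : H, (∀ a ∈ G, x * a * x⁻¹ ∈ E) → ∀ a ∈ E, x * a * x⁻¹ ∈ E := by
    intro x hx
    have : E ≤ E.comap (MulAut.conj x).toMonoidHom := by
      rw [Subgroup.closure_le]
      exact hx
    exact this
  have cy0 : y * b0 * y⁻¹ = b1 := by rw [h.y0, mul_inv_cancel_right]
  have cy1 : y * b1 * y⁻¹ = b2 := by rw [h.y1, mul_inv_cancel_right]
  have cy2 : y * b2 * y⁻¹ = b0 * b1 := by rw [h.y2, mul_inv_cancel_right]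
  have ct0 : t * b0 * t⁻¹ = b0 * k0 := by rw [h.t0, mul_inv_cancel_right]
  have ct1 : t * b1 * t⁻¹ = b1 * k1 := by rw [h.t1, mul_inv_cancel_right]
  have ct2 : t * b2 * t⁻¹ = b2 * b0 * k2 := by rw [h.t2, mul_inv_cancel_right]
  have hy : ∀ a ∈ E, y * a * y⁻¹ ∈ E := by
    apply hnorm
    intro a ha
    rw [hG] at ha
    rcases ha with ha | rfl | rfl | rfl
    · rw [hzc a ha, mul_inv_cancel_right]; exact hZE a ha
    · rw [cy0]; exact h1
    · rw [cy1]; exact h2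
    · rw [cy2]; exact mul_mem h0 h1
  have ht : ∀ a ∈ E, t * a * t⁻¹ ∈ E := by
    apply hnorm
    intro a ha
    rw [hG] at ha
    rcases ha with ha | rfl | rfl | rfl
    · rw [hzc a ha, mul_inv_cancel_right]; exact hZE a ha
    · rw [ct0]; exact mul_mem h0 (hZE _ h.z0)
    · rw [ct1]; exact mul_mem h1 (hZE _ h.z1)
    · rw [ct2]; exact mul_mem (mul_mem h2 h0) (hZE _ h.z2)
  have hexp : ∀ a ∈ E, a ^ (3 * Nat.card Z) = 1 := by
    intro a ha
    refine Subgroup.closure_induction (p := fun a _ => a ^ (3 * Nat.card Z) = 1) ?_ (one_pow _) ?_ ?_ ha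
    · intro a ha
      rw [hG] at ha
      rcases ha with ha | rfl | rfl | rfl
      · rw [mul_comm, pow_mul]
        have : a ^ Nat.card Z = 1 := by
          have := pow_card_eq_one' (x := (⟨a, ha⟩ : Z))
          exact congrArg Subtype.val this
        rw [this, one_pow]
      · rw [pow_mul, h.d0, one_pow]
      · rw [pow_mul, h.d1, one_pow]
      · rw [pow_mul, h.d2, one_pow]
    · intro a b ha hb ha1 hb1
      rw [Commute.mul_pow (hA a ha b hb), ha1, hb1, one_mul]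
    · intro a _ ha1
      rw [inv_pow, ha1, inv_one]
  have hN : (Nat.card E : K) ≠ 0 := by
    rw [Ne, CharP.cast_eq_zero_iff K p]
    intro hd
    obtain ⟨a, ha⟩ := exists_prime_orderOf_dvd_card' p hd
    have h3 : orderOf a ∣ 3 * Nat.card Z := orderOf_dvd_of_pow_eq_one (Subtype.ext (hexp a a.2))
    rw [ha] at h3
    rcases hp.out.dvd_mul.1 h3 with h4 | h4
    · exact hp3 ((Nat.prime_dvd_prime_iff_eq hp.out Nat.prime_three).1 h4)
    · exact hZp h4
  have h3 : (3 : K) ≠ 0 := by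
    intro h3
    have h4 : ((3 : ℕ) : K) = 0 := by exact_mod_cast h3
    rw [CharP.cast_eq_zero_iff K p] at h4
    exact hp3 ((Nat.prime_dvd_prime_iff_eq hp.out Nat.prime_three).1 h4)
  obtain ⟨e, e_add, e_inj, e_ex⟩ := exists_e K h3
  have val : ∀ (χ : E →* Kˣ) (a : H) (ha : a ∈ E), a ^ 3 = 1 → ∃ c, χ ⟨a, ha⟩ = e c := by
    intro χ a ha ha3
    apply e_ex
    rw [← map_pow]
    have : (⟨a, ha⟩ : E) ^ 3 = 1 := Subtype.ext ha3
    rw [this, map_one]
  obtain ⟨χ0, hχ0, hχ1⟩ := exists_wc ρ hA hN (c := ⟨b0, h0⟩) hρ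
  obtain ⟨v0, hv0⟩ := val χ0 b0 h0 h.d0
  obtain ⟨v1, hv1⟩ := val χ0 b1 h1 h.d1
  obtain ⟨v2, hv2⟩ := val χ0 b2 h2 h.d2
  obtain ⟨c0, hc0⟩ := val χ0 k0 (hZE _ h.z0) h.e0
  obtain ⟨c1, hc1⟩ := val χ0 k1 (hZE _ h.z1) h.e1
  obtain ⟨c2, hc2⟩ := val χ0 k2 (hZE _ h.z2) h.e2
  have e0 : e 0 = 1 := by
    have := e_add 0 0
    rw [add_zero] at this
    exact left_eq_mul.1 this
  let P : V3 → Prop := fun v => ∃ χ : E →* Kˣ, wc ρ E χ ≠ ⊥ ∧ (∀ k (hk : k ∈ Z), χ ⟨k, hZE k hk⟩ = χ0 ⟨k, hZE k hk⟩) ∧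
    χ ⟨b0, h0⟩ = e v.1 ∧ χ ⟨b1, h1⟩ = e v.2.1 ∧ χ ⟨b2, h2⟩ = e v.2.2
  have hP0 : P (v0, v1, v2) := ⟨χ0, hχ0, fun _ _ => rfl, hv0, hv1, hv2⟩
  have hcj : ∀ (χ : E →* Kˣ) (x : H) (hx : ∀ a ∈ E, x * a * x⁻¹ ∈ E) (a : H) (ha : a ∈ E) (b : H) (hb : b ∈ E),
      x * a * x⁻¹ = b → (χ.comp (cjA hx)) ⟨a, ha⟩ = χ ⟨b, hb⟩ := by
    intro χ x hx a ha b hb hab
    change χ (cjA hx ⟨a, ha⟩) = _
    congr 1
    exact Subtype.ext hab
  have hP1 : ∀ v, P v → P (sg v) := by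
    rintro v ⟨χ, hχ, hz, r0, r1, r2⟩
    refine ⟨χ.comp (cjA hy), wc_twist ρ hy hχ, ?_, ?_, ?_, ?_⟩
    · intro k hk
      rw [hcj χ y hy k (hZE k hk) k (hZE k hk) (by rw [hzc k hk, mul_inv_cancel_right]), hz k hk]
    · rw [hcj χ y hy b0 h0 b1 h1 cy0, r1]; rfl
    · rw [hcj χ y hy b1 h1 b2 h2 cy1, r2]; rfl
    · rw [hcj χ y hy b2 h2 (b0 * b1) (mul_mem h0 h1) cy2]
      have : (⟨b0 * b1, mul_mem h0 h1⟩ : E) = ⟨b0, h0⟩ * ⟨b1, h1⟩ := rfl
      rw [this, map_mul, r0, r1, ← e_add]; rfl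
  have hP2 : ∀ v, P v → P (ta (c0, c1, c2) v) := by
    rintro v ⟨χ, hχ, hz, r0, r1, r2⟩
    refine ⟨χ.comp (cjA ht), wc_twist ρ ht hχ, ?_, ?_, ?_, ?_⟩
    · intro k hk
      rw [hcj χ t ht k (hZE k hk) k (hZE k hk) (by rw [hzc k hk, mul_inv_cancel_right]), hz k hk]
    · rw [hcj χ t ht b0 h0 (b0 * k0) (mul_mem h0 (hZE _ h.z0)) ct0]
      have : (⟨b0 * k0, mul_mem h0 (hZE _ h.z0)⟩ : E) = ⟨b0, h0⟩ * ⟨k0, hZE _ h.z0⟩ := rfl
      rw [this, map_mul, r0, hz k0 h.z0, hc0, ← e_add]; rfl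
    · rw [hcj χ t ht b1 h1 (b1 * k1) (mul_mem h1 (hZE _ h.z1)) ct1]
      have : (⟨b1 * k1, mul_mem h1 (hZE _ h.z1)⟩ : E) = ⟨b1, h1⟩ * ⟨k1, hZE _ h.z1⟩ := rfl
      rw [this, map_mul, r1, hz k1 h.z1, hc1, ← e_add]; rfl
    · rw [hcj χ t ht b2 h2 (b2 * b0 * k2) (mul_mem (mul_mem h2 h0) (hZE _ h.z2)) ct2]
      have : (⟨b2 * b0 * k2, mul_mem (mul_mem h2 h0) (hZE _ h.z2)⟩ : E) = ⟨b2, h2⟩ * ⟨b0, h0⟩ * ⟨k2, hZE _ h.z2⟩ := rfl
      rw [this, map_mul, map_mul, r2, r0, hz k2 h.z2, hc2, ← e_add, ← e_add]; rfl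
  have hne : ((v0, v1, v2) : V3) ≠ 0 := by
    intro hh
    apply hχ1
    have : v0 = 0 := congrArg Prod.fst hh
    rw [hv0, this, e0]
  have hall := comb hP1 hP2 hne hP0
  let f : {v : V3 // v ≠ 0} → (E →* Kˣ) := fun v => (hall v v.2).choose
  have hf : ∀ v : {v : V3 // v ≠ 0}, wc ρ E (f v) ≠ ⊥ ∧ (∀ k (hk : k ∈ Z), f v ⟨k, hZE k hk⟩ = χ0 ⟨k, hZE k hk⟩) ∧
    f v ⟨b0, h0⟩ = e v.1.1 ∧ f v ⟨b1, h1⟩ = e v.1.2.1 ∧ f v ⟨b2, h2⟩ = e v.1.2.2 := fun v => (hall v v.2).choose_spec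
  have finj : Function.Injective f := by
    intro v w hvw
    apply Subtype.ext
    obtain ⟨-, -, r0, r1, r2⟩ := hf v
    obtain ⟨-, -, s0, s1, s2⟩ := hf w
    rw [hvw] at r0 r1 r2
    refine Prod.ext (e_inj (r0.symm.trans s0)) (Prod.ext (e_inj (r1.symm.trans s1)) (e_inj (r2.symm.trans s2)))
  have hT := at0z ρ hA hN hy (s := 13) (by norm_num)
    (fun a _ => (hzc _ h.y13 a).symm) (Finset.univ.image f) (by
      intro χ hχ
      obtain ⟨v, -, rfl⟩ := Finset.mem_image.1 hχ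
      obtain ⟨r, -, r0, r1, r2⟩ := hf v
      refine ⟨r, fun heq => v.2 ?_⟩
      have q0 : f v ⟨b1, h1⟩ = f v ⟨b0, h0⟩ := by
        rw [← hcj (f v) y hy b0 h0 b1 h1 cy0, heq]
      have q1 : f v ⟨b2, h2⟩ = f v ⟨b1, h1⟩ := by
        rw [← hcj (f v) y hy b1 h1 b2 h2 cy1, heq]
      have q2 : f v ⟨b0, h0⟩ * f v ⟨b1, h1⟩ = f v ⟨b2, h2⟩ := by
        have : (⟨b0 * b1, mul_mem h0 h1⟩ : E) = ⟨b0, h0⟩ * ⟨b1, h1⟩ := rfl
        rw [← map_mul, ← this, ← hcj (f v) y hy b2 h2 (b0 * b1) (mul_mem h0 h1) cy2, heq]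
      rw [r0, r1] at q0
      rw [r1, r2] at q1
      rw [r0, r1, r2, ← e_add] at q2
      have w0 := e_inj q0
      have w1 := e_inj q1
      have w2 := e_inj q2
      have w3 : v.1.1 = 0 := by
        rw [w1, w0] at w2
        exact left_eq_add.1 w2.symm
      refine Prod.ext w3 (Prod.ext ?_ ?_)
      · exact w0.trans w3
      · exact w1.trans (w0.trans w3))
  rw [Finset.card_image_of_injective _ finj, Finset.card_univ] at hT
  have hc : Fintype.card {v : V3 // v ≠ 0} = 26 := (Fintype.card_congr (Equiv.refl _)).trans card26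
  rw [hc] at hT
  omega

end Cfsg.Agent.H484.RIM
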